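import Mathlib
import Groth.Agent.CycTameLib.Laws

/-!
# A common overring of two finite extensions of a one-dimensional local ring
-/

set_option autoImplicit false

universe u

open IsLocalRing

namespace Groth.Agent.CycLib28.TameNorm

open Groth.Agent.CycTameLib

variable {A : Type u} [CommRing A] [IsLocalRing A] [IsNoetherianRing A] [Ring.KrullDimLE 1 A]

/-- two finite extensions sit in a third one, where nonzerodivisors of `A` stay nonzerodivisors -/
theorem exists_compositum {B B' : Type u} [CommRing B] [Algebra A B] [CommRing B'] [Algebra A B']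
    (hB : CycAlg.IsFinExt A B (maximalIdeal A)) (hB' : CycAlg.IsFinExt A B' (maximalIdeal A)) {t : A}
    (ht : t ∈ maximalIdeal A) (htA : t ∈ nonZeroDivisors A) (htB : algebraMap A B t ∈ nonZeroDivisors B)
    (htB' : algebraMap A B' t ∈ nonZeroDivisors B') :
    ∃ (C : Type u) (_ : CommRing C) (_ : Algebra A C) (ψ : B →ₐ[A] C) (_ : B' →ₐ[A] C),
      Function.Injective ψ ∧ CycAlg.IsFinExt A C (maximalIdeal A) ∧
      ∀ c ∈ nonZeroDivisors A, ∀ n : MaximalSpectrum C,
        algebraMap A (Localization.AtPrime n.asIdeal) c ∈ nonZeroDivisors _ := by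
  obtain ⟨ψ, hψ⟩ := exists_embedding hB ht htA htB
  obtain ⟨ψ', -⟩ := exists_embedding hB' ht htA htB'
  haveI := hB.2.1
  haveI := hB'.2.1
  let C : Subalgebra A (Localization.Away t) := ψ.range ⊔ ψ'.range
  have hfg : C.toSubmodule.FG := by
    have h1 : ψ.range.toSubmodule.FG := by
      have := Module.Finite.fg_top (R := A) (M := B)
      have h := this.map ψ.toLinearMap
      rw [Submodule.map_top] at h
      exact h
    have h2 : ψ'.range.toSubmodule.FG := by
      have := Module.Finite.fg_top (R := A) (M := B')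
      have h := this.map ψ'.toLinearMap
      rw [Submodule.map_top] at h
      exact h
    show (Subalgebra.toSubmodule (ψ.range ⊔ ψ'.range)).FG
    rw [← Subalgebra.mul_toSubmodule]
    exact h1.mul h2
  haveI : Module.Finite A C := Module.Finite.iff_fg.mpr hfg
  have hC : CycAlg.IsFinExt A C (maximalIdeal A) := by
    refine ⟨fun c c' h ↦ IsLocalization.injective (Localization.Away t) (Submonoid.powers_le.mpr htA)
      (congrArg Subtype.val h), inferInstance, ?_⟩
    obtain ⟨G', hG'⟩ := hfg
    obtain ⟨m, hm⟩ := IsLocalization.exist_integer_multiples_of_finset (Submonoid.powers t) G'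
    obtain ⟨k, hk⟩ := m.2
    obtain ⟨N, hN⟩ := exists_pow_mem htA k
    have hall : ∀ y ∈ Submodule.span A (G' : Set (Localization.Away t)),
        ∃ c, algebraMap A (Localization.Away t) c = (m : A) • y := by
      intro y hy
      induction hy using Submodule.span_induction with
      | mem y hy => exact hm y hy
      | zero => exact ⟨0, by rw [map_zero, smul_zero]⟩
      | add y z _ _ hy hz =>
        obtain ⟨c, hc⟩ := hy; obtain ⟨c', hc'⟩ := hz
        exact ⟨c + c', by rw [map_add, hc, hc', smul_add]⟩
      | smul d y _ hy =>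
        obtain ⟨c, hc⟩ := hy
        exact ⟨d * c, by rw [map_mul, hc, ← Algebra.smul_def, smul_comm]⟩
    refine ⟨N, fun r hr y ↦ ?_⟩
    obtain ⟨d, rfl⟩ := Ideal.mem_span_singleton.mp (hN hr)
    obtain ⟨c, hc⟩ := hall y (hG'.ge y.2)
    refine ⟨d * c, Subtype.ext ?_⟩
    change algebraMap A (Localization.Away t) (d * c) = (t ^ k * d) • (y : Localization.Away t)
    rw [map_mul, hc, ← Algebra.smul_def, show t ^ k = (m : A) from hk, mul_comm (m : A), mul_smul]
  refine ⟨C, inferInstance, inferInstance,
    ψ.codRestrict C fun x ↦ (le_sup_left : ψ.range ≤ C) (AlgHom.mem_range_self ψ x),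
    ψ'.codRestrict C fun x ↦ (le_sup_right : ψ'.range ≤ C) (AlgHom.mem_range_self ψ' x),
    fun x y h ↦ hψ (congrArg Subtype.val h), hC, fun c hc n ↦ ?_⟩
  rw [IsScalarTower.algebraMap_apply A C, mem_nonZeroDivisors_iff_right]
  intro z hz
  obtain ⟨w, s, rfl⟩ := IsLocalization.exists_mk'_eq n.asIdeal.primeCompl z
  rw [IsLocalization.mk'_eq_zero_iff]
  have h2 : algebraMap C (Localization.AtPrime n.asIdeal) (w * algebraMap A C c) = 0 := by
    rw [map_mul, ← IsLocalization.mk'_spec' (Localization.AtPrime n.asIdeal) w s, mul_assoc, hz, mul_zero]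
  obtain ⟨p, hp⟩ := (IsLocalization.map_eq_zero_iff n.asIdeal.primeCompl _ _).mp h2
  refine ⟨p, Subtype.ext ((isUnit_away ht hc).mul_left_eq_zero.mp ?_)⟩
  have := congrArg Subtype.val hp
  simpa [mul_assoc] using this

end Groth.Agent.CycLib28.TameNorm
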