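import Mathlib
import Groth.Agent.CycTameLib.Laws

/-!
# A flat local base change of a finite extension of a one-dimensional local ring
-/

set_option autoImplicit false

universe u

open IsLocalRing TensorProduct

namespace Groth.Agent.CycLib28.TameNorm

open Groth.Agent.CycTameLib

variable {A A' : Type u} [CommRing A] [CommRing A'] [IsLocalRing A] [IsLocalRing A'] [Algebra A A']
  [Module.Flat A A']

omit [IsLocalRing A] [IsLocalRing A'] in
theorem algebraMap_tmul_mem_nonZeroDivisors {B : Type u} [CommRing B] [Algebra A B] {c : A}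
    (hc : algebraMap A B c ∈ nonZeroDivisors B) :
    algebraMap A' (A' ⊗[A] B) (algebraMap A A' c) ∈ nonZeroDivisors (A' ⊗[A] B) := by
  have hinj : Function.Injective (LinearMap.lsmul A B c) := fun x y h ↦ by
    simp only [LinearMap.lsmul_apply, Algebra.smul_def] at h
    exact (mul_cancel_left_mem_nonZeroDivisors hc).mp h
  have hT := Module.Flat.lTensor_preserves_injective_linearMap (M := A') _ hinj
  have hl : ∀ z : A' ⊗[A] B, LinearMap.lTensor A' (LinearMap.lsmul A B c) z = c • z := fun z ↦ by
    induction z using TensorProduct.induction_on with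
    | zero => simp
    | tmul x y => simp
    | add x y hx hy => rw [map_add, hx, hy, smul_add]
  rw [mem_nonZeroDivisors_iff_right]
  intro z hz
  refine hT ((hl z).trans ?_)
  rw [map_zero, Algebra.smul_def, IsScalarTower.algebraMap_apply A A' (A' ⊗[A] B), mul_comm, hz]

omit [IsLocalRing A] [IsLocalRing A'] in
theorem algebraMap_mem_nonZeroDivisors_of_flat {c : A} (hc : c ∈ nonZeroDivisors A) :
    algebraMap A A' c ∈ nonZeroDivisors A' := by
  have h := algebraMap_tmul_mem_nonZeroDivisors (A' := A') (B := A) (c := c) (by simpa using hc)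
  rw [mem_nonZeroDivisors_iff_right] at h ⊢
  intro z hz
  have := h (z ⊗ₜ 1) (by
    rw [Algebra.TensorProduct.algebraMap_apply, Algebra.TensorProduct.tmul_mul_tmul]
    change (z * algebraMap A A' c) ⊗ₜ[A] ((1 : A) * 1) = 0
    rw [hz, TensorProduct.zero_tmul])
  simpa using congrArg (TensorProduct.rid A A') this

variable [IsLocalHom (algebraMap A A')] [IsNoetherianRing A'] [Ring.KrullDimLE 1 A']

theorem exists_pow_le_map {t : A} (ht : t ∈ maximalIdeal A) (ht' : algebraMap A A' t ∈ nonZeroDivisors A') :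
    ∃ N, maximalIdeal A' ^ N ≤ (maximalIdeal A).map (algebraMap A A') := by
  obtain ⟨N, hN⟩ := exists_pow_mem ht' 1
  refine ⟨N, hN.trans ?_⟩
  rw [pow_one, Ideal.span_singleton_le_iff_mem]
  exact Ideal.mem_map_of_mem _ ht

theorem isArtinian_fibre {t : A} (ht : t ∈ maximalIdeal A) (ht' : algebraMap A A' t ∈ nonZeroDivisors A') :
    IsArtinianRing (A' ⧸ (maximalIdeal A).map (algebraMap A A')) := by
  obtain ⟨N, hN⟩ := exists_pow_le_map ht ht'
  refine isArtinianRing_iff_krullDimLE_zero.mpr ((Ring.krullDimLE_zero_iff (R := _)).mpr fun q hq ↦ ?_)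
  haveI := hq
  have hle : maximalIdeal A' ≤ q.comap (Ideal.Quotient.mk _) := by
    refine Ideal.IsPrime.le_of_pow_le (n := N) ?_
    exact hN.trans (fun x hx ↦ by
      rw [Ideal.mem_comap, Ideal.Quotient.eq_zero_iff_mem.mpr hx]; exact zero_mem _)
  have hm : (q.comap (Ideal.Quotient.mk ((maximalIdeal A).map (algebraMap A A')))).IsMaximal :=
    (maximalIdeal.isMaximal A').eq_of_le (Ideal.comap_ne_top _ hq.ne_top) hle ▸ maximalIdeal.isMaximal A'
  rw [← Ideal.map_comap_of_surjective _ Ideal.Quotient.mk_surjective q]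
  exact (Ideal.map_eq_top_or_isMaximal_of_surjective _ Ideal.Quotient.mk_surjective hm).resolve_left fun h ↦
    hq.ne_top (by rwa [Ideal.map_comap_of_surjective _ Ideal.Quotient.mk_surjective] at h)

theorem isFinExt_baseChange {B : Type u} [CommRing B] [Algebra A B] (hB : CycAlg.IsFinExt A B (maximalIdeal A))
    {t : A} (ht : t ∈ maximalIdeal A) (ht' : algebraMap A A' t ∈ nonZeroDivisors A') :
    CycAlg.IsFinExt A' (A' ⊗[A] B) (maximalIdeal A') := by
  obtain ⟨hinj, hfin, n, hn⟩ := hB
  refine ⟨fun x y h ↦ ?_, inferInstance, ?_⟩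
  · have hT := Module.Flat.lTensor_preserves_injective_linearMap (M := A') (Algebra.linearMap A B) hinj
    have h' : LinearMap.lTensor A' (Algebra.linearMap A B) (x ⊗ₜ 1) =
        LinearMap.lTensor A' (Algebra.linearMap A B) (y ⊗ₜ 1) := by
      simpa using h
    simpa using congrArg (TensorProduct.rid A A') (hT h')
  obtain ⟨N, hN⟩ := exists_pow_le_map ht ht'
  refine ⟨N * n, fun r hr z ↦ ?_⟩
  have hr' : r ∈ (maximalIdeal A ^ n).map (algebraMap A A') := by
    rw [Ideal.map_pow]
    rw [pow_mul] at hr
    exact Ideal.pow_right_mono hN n hr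
  let J : Ideal A' :=
    { carrier := {s | ∀ w : A' ⊗[A] B, s • w ∈ (algebraMap A' (A' ⊗[A] B)).range}
      zero_mem' := fun w ↦ by rw [zero_smul]; exact zero_mem _
      add_mem' := fun {a b} ha hb w ↦ by rw [add_smul]; exact add_mem (ha w) (hb w)
      smul_mem' := fun c {a} ha w ↦ by rw [smul_eq_mul, mul_comm, mul_smul]; exact ha _ }
  refine (Ideal.map_le_iff_le_comap.mpr fun c hc ↦ ?_ : _ ≤ J) hr' z
  intro w
  induction w using TensorProduct.induction_on with
  | zero => rw [smul_zero]; exact zero_mem _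
  | tmul x y =>
    obtain ⟨d, hd⟩ := hn c hc y
    refine ⟨d • x, ?_⟩
    rw [algebraMap_smul, TensorProduct.smul_tmul', TensorProduct.smul_tmul, ← hd, Algebra.algebraMap_eq_smul_one,
      Algebra.algebraMap_eq_smul_one, TensorProduct.tmul_smul, Algebra.TensorProduct.one_def, TensorProduct.smul_tmul',
      TensorProduct.smul_tmul']
    simp
  | add x y hx hy => rw [smul_add]; exact add_mem hx hy

end Groth.Agent.CycLib28.TameNorm
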