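import Mathlib
import Groth.Agent.CycTameLib.Laws
import Groth.Agent.CommAlg4.OrdTransfer

/-!
# The tame symbol at a maximal ideal of a semilocal ring read in a finite overring
-/

set_option autoImplicit false

universe u

open IsLocalRing

namespace Groth.Agent.CycLib28.TameNorm

open Groth.Agent.CycTameLib

variable {A : Type u} [CommRing A] [IsLocalRing A] [IsNoetherianRing A] [Ring.KrullDimLE 1 A]
variable {B : Type u} [CommRing B] [Algebra A B] [Module.Finite A B]
variable {C : Type u} [CommRing C] [Algebra A C] [Algebra B C] [IsScalarTower A B C] [Module.Finite A C]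

theorem raw_ringEquiv {R R' : Type u} [CommRing R] [IsLocalRing R] [CommRing R'] [IsLocalRing R'] (g : R ≃+* R')
    (π : R) (u v : Rˣ) (e f : ℕ) :
    raw (g π) (Units.map g.toRingHom.toMonoidHom u) (Units.map g.toRingHom.toMonoidHom v) e f =
      ResidueField.mapEquiv g (raw π u v e f) := by
  rw [raw, raw, map_pow, Groth.Agent.CommAlg4.OrdTransfer.ringOrd_ringEquiv]
  congr 1
  simp only [base, map_mul, map_pow, map_inv₀, map_neg, map_one, Units.coe_map]
  rfl

theorem norm_tameSymbol_atPrime (q : MaximalSpectrum B)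
    [IsLocalHom (algebraMap A (Localization.AtPrime q.asIdeal))]
    [∀ n : MaximalSpectrum C, IsLocalHom (algebraMap A (Localization.AtPrime n.asIdeal))]
    [Fintype {n : MaximalSpectrum C // below (A := A) (B := B) n = q}]
    (hinj : Function.Injective (algebraMap B C)) {t : A} (htm : t ∈ maximalIdeal A) (N : ℕ)
    (hcoker : ∀ y : C, ∃ x : B, algebraMap B C x = t ^ N • y)
    (ht : algebraMap A (Localization.AtPrime q.asIdeal) t ∈ nonZeroDivisors _)
    {a b : A} (ha : algebraMap A (Localization.AtPrime q.asIdeal) a ∈ nonZeroDivisors _)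
    (hb : algebraMap A (Localization.AtPrime q.asIdeal) b ∈ nonZeroDivisors _)
    (π : ∀ n : MaximalSpectrum C, Localization.AtPrime n.asIdeal) (hπ : ∀ n, π n ∈ nonZeroDivisors _)
    (u v : ∀ n : MaximalSpectrum C, (Localization.AtPrime n.asIdeal)ˣ) (e f : MaximalSpectrum C → ℕ)
    (h1 : ∀ n, algebraMap A (Localization.AtPrime n.asIdeal) a = (u n : Localization.AtPrime n.asIdeal) * π n ^ e n)
    (h2 : ∀ n, algebraMap A (Localization.AtPrime n.asIdeal) b = (v n : Localization.AtPrime n.asIdeal) * π n ^ f n) :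
    Algebra.norm (ResidueField A) (CycAlg.tameSymbol (Localization.AtPrime q.asIdeal)
        (algebraMap A (Localization.AtPrime q.asIdeal) a) (algebraMap A (Localization.AtPrime q.asIdeal) b)) =
      ∏ n : {n : MaximalSpectrum C // below (A := A) (B := B) n = q},
        Algebra.norm (ResidueField A) (raw (π n.1) (u n.1) (v n.1) (e n.1) (f n.1)) := by
  classical
  haveI : IsNoetherianRing B := IsNoetherianRing.of_finite A B
  haveI : IsNoetherianRing (Localization.AtPrime q.asIdeal) :=
    IsLocalization.isNoetherianRing q.asIdeal.primeCompl _ inferInstance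
  haveI := krullDimLE_one_localization (A := A) q.asIdeal
  haveI : Module.Finite B C := Module.Finite.of_restrictScalars_finite A B C
  let Rq := Localization.AtPrime q.asIdeal
  let Cq := Localization (Algebra.algebraMapSubmonoid C q.asIdeal.primeCompl)
  haveI : IsScalarTower A B Cq := IsScalarTower.of_algebraMap_eq fun c ↦ by
    rw [IsScalarTower.algebraMap_apply A C Cq, IsScalarTower.algebraMap_apply A B C,
      IsScalarTower.algebraMap_apply B C Cq]
  haveI : IsLocalizedModule q.asIdeal.primeCompl (IsScalarTower.toAlgHom B C Cq).toLinearMap :=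
    isLocalizedModule_iff_isLocalization.mpr inferInstance
  haveI : Module.Finite Rq Cq :=
    Module.Finite.of_isLocalizedModule q.asIdeal.primeCompl (IsScalarTower.toAlgHom B C Cq).toLinearMap
  have hext : CycAlg.IsFinExt Rq Cq (maximalIdeal Rq) := by
    refine ⟨localizationAlgebra_injective (M := q.asIdeal.primeCompl) (S := C) Rq Cq hinj, inferInstance, ?_⟩
    have htmax : algebraMap A Rq t ∈ maximalIdeal Rq := fun hu ↦
      (mem_maximalIdeal _).mp htm (isUnit_of_map_unit _ _ hu)
    obtain ⟨M, hM⟩ := exists_pow_mem ht N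
    refine ⟨M, fun r hr y ↦ ?_⟩
    obtain ⟨c, s, rfl⟩ := IsLocalization.exists_mk'_eq (Algebra.algebraMapSubmonoid C q.asIdeal.primeCompl) y
    obtain ⟨p, hp, hps⟩ := s.2
    obtain ⟨x, hx⟩ := hcoker c
    obtain ⟨d, rfl⟩ := Ideal.mem_span_singleton.mp (hM hr)
    refine ⟨d * IsLocalization.mk' Rq x (⟨p, hp⟩ : q.asIdeal.primeCompl), ?_⟩
    have key : algebraMap Rq Cq (IsLocalization.mk' Rq x (⟨p, hp⟩ : q.asIdeal.primeCompl)) =
        algebraMap Rq Cq (algebraMap A Rq t ^ N) *
          IsLocalization.mk' Cq c s := by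
      refine ((IsLocalization.map_units Cq s).mul_left_inj).mp ?_
      rw [mul_assoc, IsLocalization.mk'_spec]
      have hs : algebraMap C Cq s.1 = algebraMap Rq Cq (algebraMap B Rq p) := by
        rw [← IsScalarTower.algebraMap_apply B Rq Cq, IsScalarTower.algebraMap_apply B C Cq, hps]
      rw [hs, ← map_mul, IsLocalization.mk'_spec Rq x (⟨p, hp⟩ : q.asIdeal.primeCompl),
        ← IsScalarTower.algebraMap_apply B Rq Cq, IsScalarTower.algebraMap_apply B C Cq, hx,
        Algebra.smul_def, map_mul, ← map_pow, IsScalarTower.algebraMap_apply A B Rq,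
        ← IsScalarTower.algebraMap_apply B Rq Cq, IsScalarTower.algebraMap_apply B C Cq,
        ← IsScalarTower.algebraMap_apply A B C]
    rw [map_mul, key, Algebra.smul_def, map_mul, map_pow]
    ring
  let φ : MaximalSpectrum Cq → {n : MaximalSpectrum C // below (A := A) (B := B) n = q} := fun n' ↦ by
    have hb' : (n'.asIdeal.comap (algebraMap C Cq)).comap (algebraMap B C) = q.asIdeal := by
      rw [Ideal.comap_comap, ← IsScalarTower.algebraMap_eq B C Cq, IsScalarTower.algebraMap_eq B Rq Cq,
        ← Ideal.comap_comap, IsLocalRing.eq_maximalIdeal (Ideal.isMaximal_comap_of_isIntegral_of_isMaximal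
          (R := Rq) n'.asIdeal)]
      exact IsLocalization.AtPrime.comap_maximalIdeal Rq q.asIdeal
    haveI : ((n'.asIdeal.comap (algebraMap C Cq)).comap (algebraMap B C)).IsMaximal := hb'.symm ▸ q.isMaximal
    haveI hmax : (n'.asIdeal.comap (algebraMap C Cq)).IsMaximal :=
      Ideal.isMaximal_of_isIntegral_of_isMaximal_comap (R := B) _ ‹_›
    exact ⟨⟨_, hmax⟩, MaximalSpectrum.ext hb'⟩
  have hφ : Function.Bijective φ := by
    refine ⟨fun n m h ↦ ?_, fun ⟨n, hn⟩ ↦ ?_⟩
    · have h' : n.asIdeal.comap (algebraMap C Cq) = m.asIdeal.comap (algebraMap C Cq) :=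
        congrArg (fun z ↦ z.1.asIdeal) h
      apply MaximalSpectrum.ext
      exact (IsLocalization.map_comap (Algebra.algebraMapSubmonoid C q.asIdeal.primeCompl) Cq n.asIdeal).symm.trans
        ((congrArg (Ideal.map (algebraMap C Cq)) h').trans (IsLocalization.map_comap (Algebra.algebraMapSubmonoid C q.asIdeal.primeCompl) Cq m.asIdeal))
    · have hdis : Disjoint (Algebra.algebraMapSubmonoid C q.asIdeal.primeCompl : Set C) (n.asIdeal : Set C) := by
        rw [Set.disjoint_left]
        rintro _ ⟨p, hp, rfl⟩ hn'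
        exact hp (show p ∈ q.asIdeal by rw [← hn]; exact hn')
      have hprime := IsLocalization.isPrime_of_isPrime_disjoint (Algebra.algebraMapSubmonoid C q.asIdeal.primeCompl)
        Cq n.asIdeal inferInstance hdis
      obtain ⟨M, hM, hle⟩ := Ideal.exists_le_maximal _ hprime.ne_top
      refine ⟨⟨M, hM⟩, Subtype.ext (MaximalSpectrum.ext ?_)⟩
      refine (n.isMaximal.eq_of_le (Ideal.comap_ne_top _ hM.ne_top) ?_).symm
      exact Ideal.map_le_iff_le_comap.mp hle
  haveI : Finite (MaximalSpectrum Cq) := Finite.of_injective φ hφ.1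
  letI := Fintype.ofFinite (MaximalSpectrum Cq)
  haveI hlh : ∀ n' : MaximalSpectrum Cq, IsLocalHom (algebraMap Rq (Localization.AtPrime n'.asIdeal)) :=
    isLocalHom_maximal
  haveI hloc' : ∀ n' : MaximalSpectrum Cq,
      IsLocalization.AtPrime (Localization.AtPrime n'.asIdeal) (φ n').1.asIdeal := fun n' ↦
    IsLocalization.isLocalization_isLocalization_atPrime_isLocalization
      (Algebra.algebraMapSubmonoid C q.asIdeal.primeCompl) (Localization.AtPrime n'.asIdeal) n'.asIdeal
  let g : ∀ n' : MaximalSpectrum Cq,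
      Localization.AtPrime (φ n').1.asIdeal ≃ₐ[C] Localization.AtPrime n'.asIdeal := fun n' ↦
    IsLocalization.algEquiv (φ n').1.asIdeal.primeCompl _ _
  have hA : ∀ (n' : MaximalSpectrum Cq) (c : A),
      algebraMap Rq (Localization.AtPrime n'.asIdeal) (algebraMap A Rq c) =
        g n' (algebraMap A (Localization.AtPrime (φ n').1.asIdeal) c) := fun n' c ↦ by
    rw [IsScalarTower.algebraMap_apply A C (Localization.AtPrime (φ n').1.asIdeal), AlgEquiv.commutes,
      IsScalarTower.algebraMap_apply Rq Cq (Localization.AtPrime n'.asIdeal), IsScalarTower.algebraMap_apply A B Rq,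
      ← IsScalarTower.algebraMap_apply B Rq Cq, IsScalarTower.algebraMap_apply B C Cq,
      ← IsScalarTower.algebraMap_apply A B C, ← IsScalarTower.algebraMap_apply C Cq (Localization.AtPrime n'.asIdeal)]
  rw [tameSymbol_eq_prod ha hb hext (fun n' ↦ (g n').toRingEquiv (π (φ n').1))
    (fun n' ↦ ?_) (fun n' ↦ Units.map (g n').toRingEquiv.toRingHom.toMonoidHom (u (φ n').1))
    (fun n' ↦ Units.map (g n').toRingEquiv.toRingHom.toMonoidHom (v (φ n').1))
    (fun n' ↦ e (φ n').1) (fun n' ↦ f (φ n').1) (fun n' ↦ ?_) (fun n' ↦ ?_), map_prod]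
  rotate_left
  · rw [mem_nonZeroDivisors_iff_right]
    intro z hz
    have h := (mem_nonZeroDivisors_iff_right.mp (hπ (φ n').1)) ((g n').symm z)
      ((g n').injective (by rw [map_mul, AlgEquiv.apply_symm_apply, map_zero]; exact hz))
    exact (g n').symm.injective (h.trans (map_zero _).symm)
  · rw [hA, h1, map_mul, map_pow]; rfl
  · rw [hA, h2, map_mul, map_pow]; rfl
  refine Fintype.prod_bijective φ hφ _ _ fun n' ↦ ?_
  rw [raw_ringEquiv]
  haveI hlA : IsLocalHom (algebraMap A (Localization.AtPrime n'.asIdeal)) := ⟨fun c hc ↦ by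
    refine isUnit_of_map_unit (algebraMap A (Localization.AtPrime (φ n').1.asIdeal)) c ?_
    have := hc.map (g n').symm
    rwa [IsScalarTower.algebraMap_apply A C (Localization.AtPrime n'.asIdeal), AlgEquiv.commutes,
      ← IsScalarTower.algebraMap_apply A C] at this⟩
  haveI : IsScalarTower (ResidueField A) (ResidueField Rq) (ResidueField (Localization.AtPrime n'.asIdeal)) := by
    refine IsScalarTower.of_algebraMap_eq fun x ↦ ?_
    obtain ⟨c, rfl⟩ := residue_surjective x
    change residue _ (algebraMap A (Localization.AtPrime n'.asIdeal) c) =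
      residue _ (algebraMap Rq (Localization.AtPrime n'.asIdeal) (algebraMap A Rq c))
    rw [hA, IsScalarTower.algebraMap_apply A C (Localization.AtPrime (φ n').1.asIdeal), AlgEquiv.commutes,
      ← IsScalarTower.algebraMap_apply A C]
  haveI := finite_residue (A := A) q
  haveI := finite_residue (A := Rq) n'
  rw [Algebra.norm_norm]
  refine (Algebra.norm_eq_of_equiv_equiv (RingEquiv.refl _) (ResidueField.mapEquiv (g n').toRingEquiv) ?_ _).symm
  refine RingHom.ext fun c ↦ ?_
  obtain ⟨c, rfl⟩ := residue_surjective c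
  change residue _ (algebraMap A (Localization.AtPrime n'.asIdeal) c) =
    residue _ (g n' (algebraMap A (Localization.AtPrime (φ n').1.asIdeal) c))
  rw [IsScalarTower.algebraMap_apply A C (Localization.AtPrime (φ n').1.asIdeal), AlgEquiv.commutes,
    ← IsScalarTower.algebraMap_apply A C]

end Groth.Agent.CycLib28.TameNorm
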